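import Cfsg.Agent.H704.DS.LBHigh
import Cfsg.Agent.H704.Transpose

/-!
# The degrees of `A_n` (helper704, for S4766)

* `IsDegA n d` : `d` is the degree of an irreducible character of `A_n`, in terms of partitions;
* `scl n` : the degrees of the self-conjugate partitions of `n`, `n ≤ 26`;
* `isDeg_of_isDegA` : small degrees of `A_n` are degrees of `S_n`;
* `low_degreeA` : `1`, `n - 1` or at least `n (n - 3) / 2`.
-/

set_option autoImplicit false
set_option linter.unusedSectionVars false
set_option maxRecDepth 100000

namespace Cfsg.Agent.H704.DSA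

open Finset Cfsg.Agent.H704 Cfsg.Agent.H704.DS

/-- `d` is the degree of an irreducible character of `A_n` -/
def IsDegA (n d : ℕ) : Prop := ∃ l : List ℕ, IsPart l n ∧ ((transpose l ≠ l ∧ d * hookProd l = n.factorial) ∨
  (transpose l = l ∧ 2 * d * hookProd l = n.factorial))

theorem IsDegA.cases {n d : ℕ} (h : IsDegA n d) : IsDeg n d ∨
    ∃ l : List ℕ, IsPart l n ∧ transpose l = l ∧ 2 * d * hookProd l = n.factorial := by
  obtain ⟨l, hl, ⟨-, h2⟩ | ⟨h1, h2⟩⟩ := h
  · exact Or.inl ⟨l, hl, h2⟩
  · exact Or.inr ⟨l, hl, h1, h2⟩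

theorem IsDegA.or {n d : ℕ} (h : IsDegA n d) : IsDeg n d ∨ IsDeg n (2 * d) := by
  rcases h.cases with h | ⟨l, h1, -, h2⟩
  · exact Or.inl h
  · exact Or.inr ⟨l, h1, h2⟩

theorem IsDegA.dvd {n d : ℕ} (h : IsDegA n d) : d ∣ n.factorial := by
  rcases h.or with ⟨l, -, h⟩ | ⟨l, -, h⟩
  · exact ⟨_, h.symm⟩
  · exact ⟨2 * hookProd l, by rw [← h]; ring⟩

theorem IsDegA.pos {n d : ℕ} (h : IsDegA n d) : 0 < d := Nat.pos_of_dvd_of_pos h.dvd (Nat.factorial_pos n)

/-- first row and column of a self-conjugate partition -/
theorem sc_head {l : List ℕ} {n : ℕ} (hl : IsPart l n) (ht : transpose l = l) :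
    l.headD 0 = colLen l 0 ∧ 2 * l.headD 0 ≤ n + 1 := by
  have h1 : l.headD 0 = colLen l 0 := by
    conv_lhs => rw [← ht]
    rw [headD_eq_getD, getD_transpose hl.sorted]
  refine ⟨h1, ?_⟩
  rcases Nat.eq_zero_or_pos (l.headD 0) with h0 | h0
  · omega
  · have := head_add_col_le hl.sorted h0
    rw [hl.sum] at this
    omega

/-- lower bounds for self-conjugate partitions -/
theorem sc_lb {l : List ℕ} {n K B d : ℕ} (hl : IsPart l n) (ht : transpose l = l) (hd : d * hookProd l = n.factorial)
    (hK : 2 * K + 1 ≤ n) (h : LBs 1 K n B) : B ≤ d := by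
  obtain ⟨h1, h2⟩ := sc_head hl ht
  have := h l d hl.sorted hl.sum hd (by omega) (by omega)
  omega

theorem tg_chk : ((List.range 35).all fun i => Nat.ble 2674440 (tg (27 + i) 12)) = true := by decide +kernel

/-- `n ≥ 27` -/
theorem sc_ge {l : List ℕ} {n d : ℕ} (hn : 27 ≤ n) (hl : IsPart l n) (ht : transpose l = l)
    (hd : d * hookProd l = n.factorial) : 2674440 ≤ d := by
  rcases Nat.lt_or_ge n 62 with h | h
  · refine sc_lb (K := 12) hl ht hd (by omega) ((lbt (by omega) (by omega) le_rfl).mono ?_)
    have h1 := List.all_eq_true.1 tg_chk (n - 27) (by rw [List.mem_range]; omega)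
    rw [show 27 + (n - 27) = n by omega] at h1
    exact Nat.le_of_ble_eq_true h1
  · refine sc_lb (K := 12) hl ht hd (by omega) (lb_high (m := 60) le_rfl le_rfl (by omega) ?_)
    decide +kernel

/-- the degrees of the self-conjugate partitions of `n ≤ 26` -/
def sclT : List (List ℕ) :=
  [[1],
   [1],
   [],
   [2],
   [2],
   [6],
   [16],
   [20],
   [42, 90],
   [42, 70],
   [448, 768],
   [252, 1188],
   [2100, 2640, 7700],
   [924, 8580, 16016],
   [9504, 59904, 68640],
   [3432, 24024, 156000, 292864],
   [24024, 42042, 250250, 404250, 928746],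
   [12870, 1262250, 1458600, 1531530, 4873050],
   [183040, 1867008, 2489344, 7920640, 9382912],
   [48620, 9053044, 19399380, 36732852, 58212352, 58786000],
   [787644, 14378364, 29628144, 34918884, 56686500, 79814592, 128931264],
   [184756, 59643584, 69283500, 276529344, 570341772, 609339500, 1100742656, 1118939184],
   [3359200, 79206400, 243877920, 605011680, 1063574400, 1094324000, 1547919360, 2364876800],
   [705432, 368903808, 4886568960, 6246600360, 7852869024, 8566766208, 11502231552, 15332564520, 28542158568],
   [14226212, 420689412, 701149020, 4036264848, 4219194980, 15466522500, 16032940924, 19632172560, 22844709888, 26027501500, 70772903388],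
   [2704156, 701149020, 2172982500, 37972754820, 51482970000, 85231020420, 108423134820, 171850250000, 225518289920, 240494113860, 477777562500, 506341621760],
   [59907456, 2170560000, 27614484480, 106064724480, 136255680000, 158155683840, 194546526720, 266500080000, 556839803520, 1076964894720, 1417410408960, 1460244240000]]

/-- the degrees of the self-conjugate partitions of `n ≤ 26` -/
def scl (n : ℕ) : List ℕ := sclT.getD n []

def scChk (n : ℕ) (l : List ℕ) (H : ℕ) : Bool :=
  l.headD 0 != l.length || transpose l != l || (scl n).contains (Nat.div n.factorial H)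

def scAll (n : ℕ) : Bool := go (scChk n) (n + 1) n 1 [] 1

theorem sc0 : ((List.range 21).all scAll) = true := by decide +kernel
theorem sc21 : scAll 21 = true := by decide +kernel
theorem sc22 : scAll 22 = true := by decide +kernel
theorem sc23 : scAll 23 = true := by decide +kernel
theorem sc24 : scAll 24 = true := by decide +kernel
theorem sc25 : scAll 25 = true := by decide +kernel
theorem sc26 : scAll 26 = true := by decide +kernel

theorem scAll_of_le {n : ℕ} (hn : n ≤ 26) : scAll n = true := by
  rcases Nat.lt_or_ge n 21 with h | h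
  · exact List.all_eq_true.1 sc0 n (List.mem_range.2 h)
  · have : n = 21 ∨ n = 22 ∨ n = 23 ∨ n = 24 ∨ n = 25 ∨ n = 26 := by omega
    rcases this with rfl | rfl | rfl | rfl | rfl | rfl
    · exact sc21
    · exact sc22
    · exact sc23
    · exact sc24
    · exact sc25
    · exact sc26

theorem mem_scl {l : List ℕ} {n d : ℕ} (hn : n ≤ 26) (hl : IsPart l n) (ht : transpose l = l)
    (hd : d * hookProd l = n.factorial) : d ∈ scl n := by
  have h := check_of_isPart (scAll_of_le hn) hl
  obtain ⟨h1, -⟩ := sc_head hl ht
  have h2 : l.headD 0 = l.length := by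
    have h3 := congrArg List.length ht
    rw [length_transpose] at h3
    exact h3
  have h3 : Nat.div n.factorial (hookProd l) = d := by
    rw [← hd]
    exact Nat.mul_div_cancel d (hookProd_pos hl.sorted)
  rw [scChk, h3, ht, h2] at h
  simpa using h

/-- no self-conjugate partition has degree `2 d` -/
def okA (d : ℕ) : Bool := Nat.blt d 1337220 && (List.range 27).all fun n => !(scl n).contains (2 * d)

/-- **small degrees of `A_n` are degrees of `S_n`** (`okA d` by `decide`) -/
theorem isDeg_of_isDegA {n d : ℕ} (h : IsDegA n d) (hd : okA d = true) : IsDeg n d := by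
  rw [okA, Bool.and_eq_true, Nat.blt_eq, List.all_eq_true] at hd
  rcases h.cases with h | ⟨l, h1, h2, h3⟩
  · exact h
  · exfalso
    rcases Nat.lt_or_ge n 27 with h27 | h27
    · have h4 := hd.2 n (List.mem_range.2 h27)
      have h5 := mem_scl (by omega) h1 h2 h3
      simp only [Bool.not_eq_true', List.contains_eq_mem, decide_eq_false_iff_not] at h4
      exact h4 h5
    · have := sc_ge h27 h1 h2 h3
      omega

/-- the same for one `n` -/
theorem isDeg_of_isDegA' {n d : ℕ} (h : IsDegA n d) (hd : d < 1337220) (hs : n ≤ 26 → 2 * d ∉ scl n) : IsDeg n d := by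
  rcases h.cases with h | ⟨l, h1, h2, h3⟩
  · exact h
  · exfalso
    rcases Nat.lt_or_ge n 27 with h27 | h27
    · exact hs (by omega) (mem_scl (by omega) h1 h2 h3)
    · have := sc_ge h27 h1 h2 h3
      omega

theorem ten_chk : ((List.range 27).all fun n => Nat.ble n 9 || (scl n).all fun f => Nat.ble (n * (n - 3)) f) = true := by
  decide +kernel

/-- **the low degrees of `A_n`**, `n ≥ 10` -/
theorem low_degreeA {n d : ℕ} (hn : 10 ≤ n) (h : IsDegA n d) : d = 1 ∨ d = n - 1 ∨ n * (n - 3) ≤ 2 * d := by
  rcases h.cases with h | ⟨l, h1, h2, h3⟩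
  · exact low_degree (by omega) h
  · right; right
    rcases Nat.lt_or_ge n 27 with h27 | h27
    · have h4 := List.all_eq_true.1 ten_chk n (List.mem_range.2 h27)
      have h5 := mem_scl (by omega) h1 h2 h3
      rw [Bool.or_eq_true] at h4
      rcases h4 with h4 | h4
      · have := Nat.le_of_ble_eq_true h4; omega
      · exact Nat.le_of_ble_eq_true (List.all_eq_true.1 h4 _ h5)
    · have h4 : LBs 1 3 n (n * (n - 3)) := by
        rcases Nat.lt_or_ge n 62 with h | h
        · refine (lbt (by omega) (by omega) (by norm_num)).mono ?_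
          have h6 : ((List.range 35).all fun i => Nat.ble ((27 + i) * (27 + i - 3)) (tg (27 + i) 3)) = true := by
            decide +kernel
          have h7 := List.all_eq_true.1 h6 (n - 27) (by rw [List.mem_range]; omega)
          rw [show 27 + (n - 27) = n by omega] at h7
          exact Nat.le_of_ble_eq_true h7
        · refine lb_high (m := n) (by norm_num) (by omega) le_rfl ?_
          obtain ⟨m, rfl⟩ := Nat.exists_eq_add_of_le h
          have e1 : Nat.factorial 3 = 6 := rfl
          have e2 : wt 3 = 95 := rfl
          have e3 : Rp 3 (62 + m) = (62 + m) * (61 + m) * (57 + m) := by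
            show (62 + m).descFactorial 2 * (62 + m - 1 - 2 * 2) = _
            rw [Nat.descFactorial_succ, Nat.descFactorial_one, show 62 + m - 1 = 61 + m by omega,
              show 61 + m - 2 * 2 = 57 + m by omega]
            ring
          rw [e1, e2, e3, show 62 + m - 3 = 59 + m by omega]
          nlinarith [Nat.zero_le m, Nat.zero_le (m * m), Nat.zero_le (m * m * m)]
      exact sc_lb (K := 3) h1 h2 h3 (by omega) h4

end Cfsg.Agent.H704.DSA
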